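import Mathlib
import Cfsg.Prelude.Def_ClassicalGeometry
import Cfsg.Prelude.Def_GeometricClasses
import Cfsg.Agent.Lib.Helper18.T23.H2.SOTDefs

/-!
S5666 part (G) "growth" (helper13's sub-market of helper2's S5666 market): definitions and basic API.

General setting (no tensors): `ι` a finite index type, `J : Matrix ι ι F` the Gram matrix of an
alternating nondegenerate form `fJ J v w = vᵀ J w` (`AltCtx J`, char `≠ 2`), transvections
`tvJ J u c : v ↦ v + c * fJ J v u • u`, `SsetJ J M` the set of centres `u` with `tvJ J u c ∈ M` for all `c`.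
The model of S5666 is the instance `J = Jm a ⊗ₖ G` (`fV G = fJ _`, `tvMat G = tvJ _` by `rfl`).
-/

set_option autoImplicit false
set_option linter.unusedSectionVars false
set_option linter.unusedVariables false

namespace Cfsg.Agent.Lib.Helper18.T23.H13.SOTG
open Matrix
open Cfsg.Agent.Lib.Helper25.Tens Cfsg.Agent.Lib.Helper25.SpT Cfsg.Agent.Lib.Helper19.OSub
open Cfsg.Agent.Lib.Helper18.T23.H2.SOT
open scoped Kronecker

variable {ι : Type} [Fintype ι] [DecidableEq ι] {F : Type*} [Field F]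

/-- the bilinear form with Gram matrix `J` -/
def fJ (J : Matrix ι ι F) (v w : ι → F) : F := v ⬝ᵥ (J *ᵥ w)

lemma fJ_add_left (J : Matrix ι ι F) (v v' w : ι → F) : fJ J (v + v') w = fJ J v w + fJ J v' w := by
  simp only [fJ, add_dotProduct]

lemma fJ_add_right (J : Matrix ι ι F) (v w w' : ι → F) : fJ J v (w + w') = fJ J v w + fJ J v w' := by
  simp only [fJ, Matrix.mulVec_add, dotProduct_add]

lemma fJ_smul_left (J : Matrix ι ι F) (c : F) (v w : ι → F) : fJ J (c • v) w = c * fJ J v w := by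
  simp only [fJ, smul_dotProduct, smul_eq_mul]

lemma fJ_smul_right (J : Matrix ι ι F) (c : F) (v w : ι → F) : fJ J v (c • w) = c * fJ J v w := by
  simp only [fJ, Matrix.mulVec_smul, dotProduct_smul, smul_eq_mul]

@[simp] lemma fJ_zero_left (J : Matrix ι ι F) (w : ι → F) : fJ J 0 w = 0 := by
  simp [fJ]

@[simp] lemma fJ_zero_right (J : Matrix ι ι F) (v : ι → F) : fJ J v 0 = 0 := by
  simp [fJ]

lemma fJ_neg_left (J : Matrix ι ι F) (v w : ι → F) : fJ J (-v) w = - fJ J v w := by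
  simp only [fJ, neg_dotProduct]

lemma fJ_neg_right (J : Matrix ι ι F) (v w : ι → F) : fJ J v (-w) = - fJ J v w := by
  simp only [fJ, Matrix.mulVec_neg, dotProduct_neg]

lemma fJ_sub_left (J : Matrix ι ι F) (v v' w : ι → F) : fJ J (v - v') w = fJ J v w - fJ J v' w := by
  simp only [fJ, sub_dotProduct]

lemma fJ_sub_right (J : Matrix ι ι F) (v w w' : ι → F) : fJ J v (w - w') = fJ J v w - fJ J v w' := by
  simp only [fJ, Matrix.mulVec_sub, dotProduct_sub]

lemma fJ_sum_left {κ : Type*} (J : Matrix ι ι F) (s : Finset κ) (v : κ → ι → F) (w : ι → F) :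
    fJ J (∑ k ∈ s, v k) w = ∑ k ∈ s, fJ J (v k) w := by
  simp only [fJ, sum_dotProduct]

lemma fJ_sum_right {κ : Type*} (J : Matrix ι ι F) (s : Finset κ) (v : ι → F) (w : κ → ι → F) :
    fJ J v (∑ k ∈ s, w k) = ∑ k ∈ s, fJ J v (w k) := by
  simp only [fJ, Matrix.mulVec_sum, dotProduct_sum]

/-- the standing hypotheses on `J`: alternating, nondegenerate, characteristic `≠ 2` -/
structure AltCtx (J : Matrix ι ι F) : Prop where
  alt : ∀ v : ι → F, fJ J v v = 0
  nd : ∀ v : ι → F, v ≠ 0 → ∃ w : ι → F, fJ J v w ≠ 0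
  two : (2 : F) ≠ 0

lemma fJ_skew {J : Matrix ι ι F} (h : AltCtx J) (v w : ι → F) : fJ J v w = - fJ J w v := by
  have h1 := h.alt (v + w)
  rw [fJ_add_left, fJ_add_right, fJ_add_right, h.alt, h.alt] at h1
  linear_combination h1

lemma fJ_eq_zero_symm {J : Matrix ι ι F} (h : AltCtx J) {v w : ι → F} (hvw : fJ J v w = 0) :
    fJ J w v = 0 := by
  rw [fJ_skew h, hvw, neg_zero]

lemma fJ_ne_zero_symm {J : Matrix ι ι F} (h : AltCtx J) {v w : ι → F} (hvw : fJ J v w ≠ 0) :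
    fJ J w v ≠ 0 := by
  rw [fJ_skew h]
  exact neg_ne_zero.2 hvw

/-- the matrix of the transvection `v ↦ v + c * fJ J v u • u` -/
def tvJ (J : Matrix ι ι F) (u : ι → F) (c : F) : Matrix ι ι F :=
  1 + c • Matrix.vecMulVec u (J *ᵥ u)

lemma tvJ_mulVec (J : Matrix ι ι F) (u : ι → F) (c : F) (v : ι → F) :
    tvJ J u c *ᵥ v = v + (c * fJ J v u) • u := by
  unfold tvJ fJ
  rw [Matrix.add_mulVec, Matrix.one_mulVec, Matrix.smul_mulVec, Matrix.vecMulVec_mulVec,
    dotProduct_comm v]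
  congr 1
  ext p
  simp only [Pi.smul_apply, smul_eq_mul, MulOpposite.smul_eq_mul_unop, MulOpposite.unop_op]
  ring

/-- the isometry group of `fJ J` -/
def SpJ (J : Matrix ι ι F) : Subgroup (GL ι F) :=
  Cfsg.preserving (Cfsg.glToMat ι F) (fJ J)

lemma mem_SpJ {J : Matrix ι ι F} {g : GL ι F} :
    g ∈ SpJ J ↔ ∀ v w, fJ J (mv g v) (mv g w) = fJ J v w := Iff.rfl

/-- the centres of the full root groups of transvections in `M` -/
def SsetJ (J : Matrix ι ι F) (M : Subgroup (GL ι F)) : Set (ι → F) :=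
  {u | ∀ c : F, InM M (tvJ J u c)}

lemma mem_SsetJ {J : Matrix ι ι F} {M : Subgroup (GL ι F)} {u : ι → F} :
    u ∈ SsetJ J M ↔ ∀ c : F, InM M (tvJ J u c) := Iff.rfl

/-- an element of `M` acting as the transvection witnesses `InM` -/
lemma inM_tvJ_of_mv {J : Matrix ι ι F} {M : Subgroup (GL ι F)} {g : GL ι F} (hg : g ∈ M)
    {u : ι → F} {c : F} (h : ∀ v, mv g v = v + (c * fJ J v u) • u) : InM M (tvJ J u c) := by
  refine ⟨g, hg, ?_⟩
  apply Matrix.mulVec_injective
  funext v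
  rw [tvJ_mulVec]
  exact h v

/-- conversely, a witness of `InM M (tvJ J u c)` acts as the transvection -/
lemma mv_of_inM_tvJ {J : Matrix ι ι F} {M : Subgroup (GL ι F)} {u : ι → F} {c : F}
    (h : InM M (tvJ J u c)) : ∃ g ∈ M, ∀ v, mv g v = v + (c * fJ J v u) • u := by
  obtain ⟨g, hg, hgm⟩ := h
  refine ⟨g, hg, fun v => ?_⟩
  unfold mv
  rw [hgm, tvJ_mulVec]

/-- a subspace all of whose vectors are centres -/
def Good (J : Matrix ι ι F) (M : Subgroup (GL ι F)) (W : Submodule F (ι → F)) : Prop :=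
  ∀ w ∈ W, w ∈ SsetJ J M

/-- a nondegenerate subspace -/
def NonDeg (J : Matrix ι ι F) (W : Submodule F (ι → F)) : Prop :=
  ∀ w ∈ W, (∀ w' ∈ W, fJ J w w' = 0) → w = 0

/-- `v` is orthogonal to the subspace `W` -/
def Perp (J : Matrix ι ι F) (W : Submodule F (ι → F)) (v : ι → F) : Prop :=
  ∀ w ∈ W, fJ J v w = 0

/-- the connectedness hypothesis on a set `P` of centres: any two are joined through a third -/
def Diam2 (J : Matrix ι ι F) (P : Set (ι → F)) : Prop :=
  ∀ e ∈ P, ∀ e' ∈ P, ∃ e'' ∈ P, fJ J e e'' ≠ 0 ∧ fJ J e' e'' ≠ 0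

/-! ### the model -/

variable {a b : ℕ}

/-- the Gram matrix of the model -/
abbrev JG (a : ℕ) (G : Matrix (Fin b) (Fin b) F) : Matrix (Idx a b) (Idx a b) F := Jm a ⊗ₖ G

lemma fV_eq_fJ (G : Matrix (Fin b) (Fin b) F) (v w : Idx a b → F) : fV G v w = fJ (JG a G) v w := rfl

lemma tvMat_eq_tvJ (G : Matrix (Fin b) (Fin b) F) (u : Idx a b → F) (c : F) :
    tvMat G u c = tvJ (JG a G) u c := rfl

lemma SpV_eq_SpJ (G : Matrix (Fin b) (Fin b) F) : (SpV G : Subgroup (GL (Idx a b) F)) = SpJ (JG a G) :=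
  rfl

lemma fJ_pt (G : Matrix (Fin b) (Fin b) F) (x x' : Fin a → F) (y y' : Fin b → F) :
    fJ (JG a G) (pt x y) (pt x' y') = sf x x' * fB G y y' := fV_pt G x x' y y'

/-- the pure singular tensors -/
def PS (a : ℕ) (G : Matrix (Fin b) (Fin b) F) : Set (Idx a b → F) :=
  {u | ∃ (x : Fin a → F) (z : Fin b → F), x ≠ 0 ∧ z ≠ 0 ∧ fB G z z = 0 ∧ u = pt x z}

end Cfsg.Agent.Lib.Helper18.T23.H13.SOTG
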