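import Mathlib
import Cfsg.Agent.Lib.Helper18.T23.H2.SOTDefs
import Cfsg.Agent.Lib.Helper18.T23.H13.SOTGDefs

/-!
S5666 part (G), leaf (TR) `exists_move`: the transvections with centres in a good nondegenerate subspace
`W` are transitive on `W ∖ 0` and fix `W^⊥` pointwise.
-/

set_option autoImplicit false
set_option linter.unusedSectionVars false
set_option linter.unusedVariables false

namespace Cfsg.Agent.Lib.Helper18.T23.H13.SOTGLeaf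
open Matrix
open Cfsg.Agent.Lib.Helper25.Tens Cfsg.Agent.Lib.Helper25.SpT Cfsg.Agent.Lib.Helper19.OSub
open Cfsg.Agent.Lib.Helper18.T23.H2.SOT Cfsg.Agent.Lib.Helper18.T23.H13.SOTG
open scoped Kronecker

variable {ι : Type} [Fintype ι] [DecidableEq ι] {F : Type*} [Field F] {J : Matrix ι ι F}
  {M : Subgroup (GL ι F)}

/-- one transvection: `f(w₁,w₂) ≠ 0` -/
lemma exists_move_one (h : AltCtx J) {W : Submodule F (ι → F)} (hW : Good J M W)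
    {w₁ w₂ : ι → F} (h₁ : w₁ ∈ W) (h₂ : w₂ ∈ W) (hne : fJ J w₁ w₂ ≠ 0) :
    ∃ g ∈ M, mv g w₁ = w₂ ∧ ∀ v : ι → F, Perp J W v → mv g v = v := by
  have hd : w₁ - w₂ ∈ W := W.sub_mem h₁ h₂
  obtain ⟨g, hg, hgv⟩ := mv_of_inM_tvJ (hW _ hd (fJ J w₁ w₂)⁻¹)
  refine ⟨g, hg, ?_, ?_⟩
  · rw [hgv, fJ_sub_right, h.alt, zero_sub, mul_neg, inv_mul_cancel₀ hne, neg_one_smul]
    abel
  · intro v hv
    rw [hgv, hv _ hd, mul_zero, zero_smul, add_zero]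

/-- (TR) transitivity -/
theorem exists_move (h : AltCtx J) (hM : M ≤ SpJ J) {W : Submodule F (ι → F)} (hW : Good J M W)
    (hnd : NonDeg J W) {w₁ w₂ : ι → F} (h₁ : w₁ ∈ W) (h₂ : w₂ ∈ W) (h₁0 : w₁ ≠ 0) (h₂0 : w₂ ≠ 0) :
    ∃ g ∈ M, mv g w₁ = w₂ ∧ ∀ v : ι → F, Perp J W v → mv g v = v := by
  by_cases hne : fJ J w₁ w₂ ≠ 0
  · exact exists_move_one h hW h₁ h₂ hne
  · -- a third vector
    have ex : ∀ w ∈ W, w ≠ 0 → ∃ a ∈ W, fJ J w a ≠ 0 := by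
      intro w hw hw0
      by_contra hcon
      push Not at hcon
      exact hw0 (hnd w hw hcon)
    obtain ⟨a, haW, ha⟩ := ex w₁ h₁ h₁0
    obtain ⟨b, hbW, hb⟩ := ex w₂ h₂ h₂0
    obtain ⟨w₃, h₃, h13, h23⟩ : ∃ w₃ ∈ W, fJ J w₁ w₃ ≠ 0 ∧ fJ J w₂ w₃ ≠ 0 := by
      by_cases h2a : fJ J w₂ a ≠ 0
      · exact ⟨a, haW, ha, h2a⟩
      · rw [not_not] at h2a
        by_cases h1b : fJ J w₁ b ≠ 0
        · exact ⟨b, hbW, h1b, hb⟩
        · rw [not_not] at h1b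
          refine ⟨a + b, W.add_mem haW hbW, ?_, ?_⟩
          · rw [fJ_add_right, h1b, add_zero]; exact ha
          · rw [fJ_add_right, h2a, zero_add]; exact hb
    obtain ⟨g₁, hg₁, hg₁w, hg₁v⟩ := exists_move_one h hW h₁ h₃ h13
    obtain ⟨g₂, hg₂, hg₂w, hg₂v⟩ := exists_move_one h hW h₃ h₂ (fJ_ne_zero_symm h h23)
    refine ⟨g₂ * g₁, M.mul_mem hg₂ hg₁, ?_, ?_⟩
    · rw [mv_mul, hg₁w, hg₂w]
    · intro v hv
      rw [mv_mul, hg₁v v hv, hg₂v v hv]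

end Cfsg.Agent.Lib.Helper18.T23.H13.SOTGLeaf
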