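import Mathlib
import Cfsg.Prelude.Def_ClassicalGeometry
import Cfsg.Prelude.Def_GeometricClasses
import Cfsg.Agent.Lib.Helper18.T23.H2.SOTDefs
import Cfsg.Agent.Lib.Helper18.T23.H2.SOTGDefs
import Cfsg.Agent.Lib.Helper18.T23.H4.SOTS
import Cfsg.Agent.Lib.Helper7.SpTN
import Cfsg.Agent.Lib.Helper18.T23.H27.SOTLADefs
import Cfsg.Agent.Lib.Helper18.T23.H27.SOTLAU5
import Cfsg.Agent.Lib.Helper18.T23.H28.SOTLAR2a
import Cfsg.Agent.Lib.Helper18.T23.H13.SOTLAR2c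
import Cfsg.Agent.Lib.Helper18.T23.H6.SOTLAU2

/-!
S5666 (LA) leaf (R2d) `mid_blocks`, CORE form against the statements of (R1), (R1+), (U2b), (U2d) as hypotheses
(`notes/S5666_LA_leaves.lean`, helper27's sub-market).
-/

set_option autoImplicit false
set_option linter.unusedSectionVars false
set_option linter.unusedVariables false

namespace Cfsg.Agent.Lib.Helper18.T23.H13.SOTLALeaf
open Matrix
open Cfsg.Agent.Lib.Helper25.Tens Cfsg.Agent.Lib.Helper25.SpT Cfsg.Agent.Lib.Helper19.OSub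
open Cfsg.Agent.Lib.Helper18.T23.H2.SOT Cfsg.Agent.Lib.Helper18.T23.H27.SOTLA
open scoped Kronecker

variable {F : Type*} [Field F] [Fintype F] {a b : ℕ} {G : Matrix (Fin b) (Fin b) F}
  {M : Subgroup (GL (Idx a b) F)}

/-- blocks of `X * (E_{p,q} ⊗ θ) * Y` -/
lemma ablk_mul_single_mul (p q : Fin a) (θ : Matrix (Fin b) (Fin b) F)
    (X Y : Matrix (Idx a b) (Idx a b) F) (i j : Fin a) :
    ablk (X * (Matrix.single p q (1 : F) ⊗ₖ θ) * Y) i j = ablk X i p * θ * ablk Y q j := by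
  have e1 : ∀ n : Fin a, ablk (X * (Matrix.single p q (1 : F) ⊗ₖ θ)) i n =
      if n = q then ablk X i p * θ else 0 := by
    intro n
    rw [ablk_mul, Finset.sum_eq_single p]
    · rw [Cfsg.Agent.Lib.Helper18.T23.H27.SOTLALeaf.ablk_single_kron]
      by_cases hn : n = q
      · rw [if_pos ⟨rfl, hn.symm⟩, if_pos hn]
      · rw [if_neg (fun h => hn h.2.symm), if_neg hn, mul_zero]
    · intro m _ hm
      rw [Cfsg.Agent.Lib.Helper18.T23.H27.SOTLALeaf.ablk_single_kron, if_neg (fun h => hm h.1.symm), mul_zero]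
    · intro h
      exact absurd (Finset.mem_univ _) h
  rw [ablk_mul, Finset.sum_eq_single q]
  · rw [e1, if_pos rfl]
  · intro n _ hn
    rw [e1, if_neg hn, zero_mul]
  · intro h
    exact absurd (Finset.mem_univ _) h

/-- blocks of `X * uMat θ ρ Ξ * Y` -/
lemma ablk_mul_uMat_mul (o o' : Fin a) (θ ρ : Fin a → Matrix (Fin b) (Fin b) F)
    (Ξ : Matrix (Fin b) (Fin b) F) (X Y : Matrix (Idx a b) (Idx a b) F) (i j : Fin a) :
    ablk (X * uMat o o' θ ρ Ξ * Y) i j = ablk (X * Y) i j +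
      ∑ m, ablk X i m * θ m * ablk Y o' j + ∑ l, ablk X i o * ρ l * ablk Y l j +
      ablk X i o * Ξ * ablk Y o' j := by
  unfold uMat
  rw [mul_add, mul_add, mul_add, add_mul, add_mul, add_mul, mul_one, Finset.mul_sum, Finset.mul_sum,
    Finset.sum_mul, Finset.sum_mul, ablk_add, ablk_add, ablk_add, ablk_sum, ablk_sum,
    ablk_mul_single_mul]
  congr 1
  congr 1
  · congr 1
    apply Finset.sum_congr rfl
    intro m _
    rw [ablk_mul_single_mul]
  · apply Finset.sum_congr rfl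
    intro l _
    rw [ablk_mul_single_mul]

/-- `uMat` with `Mid` data has `U`-form -/
lemma UA_uMat {o o' : Fin a} (hoo' : o ≠ o') {θ ρ : Fin a → Matrix (Fin b) (Fin b) F}
    {Ξ : Matrix (Fin b) (Fin b) F} (hθ : Mid o o' θ) (hρ : Mid o o' ρ) :
    UA o o' (uMat o o' θ ρ Ξ) := by
  refine ⟨?_, ?_, ?_⟩
  · intro i j hi hj
    have e : ¬ (i = o ∧ j = o') := fun h => hi h.1
    rw [Cfsg.Agent.Lib.Helper18.T23.H27.SOTLALeaf.ablk_uMat_gen, if_neg hj, if_neg hi, if_neg e, add_zero,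
      add_zero, add_zero]
  · have e : ¬ (o = o ∧ o = o') := fun h => hoo' h.2
    rw [Cfsg.Agent.Lib.Helper18.T23.H27.SOTLALeaf.ablk_uMat_gen, if_pos rfl, if_neg hoo', if_pos rfl,
      if_neg e, hρ.1, add_zero, add_zero, add_zero]
  · have e : ¬ (o' = o ∧ o' = o') := fun h => hoo' h.1.symm
    rw [Cfsg.Agent.Lib.Helper18.T23.H27.SOTLALeaf.ablk_uMat_gen, if_pos rfl, if_pos rfl, if_neg hoo'.symm,
      if_neg e, hθ.2, add_zero, add_zero, add_zero]

/-- (R2d), core form: `hR1`, `hR1p`, `hEx`, `hUA` are the statements of the leaves (R1), (R1+), (U2b), (U2d) -/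
theorem mid_blocks_core (h : MCtx a b G M) {o o' : Fin a} (ho : o.val = 0) (ho' : o'.val = 1)
    (hR1 : ∀ σ : Matrix (Fin b) (Fin b) F, InM M (uMat o o' 0 0 σ) → IsScal σ)
    (hR1p : ∀ (θ ρ : Fin a → Matrix (Fin b) (Fin b) F) (Ξ : Matrix (Fin b) (Fin b) F),
      Mid o o' θ → Mid o o' ρ → InM M (uMat o o' θ ρ Ξ) →
        (∀ i, IsScal (θ i)) ∧ (∀ j, IsScal (ρ j)) ∧ IsScal Ξ)
    (hEx : ∀ X : Matrix (Idx a b) (Idx a b) F, UA o o' X →
      ∃ (θ ρ : Fin a → Matrix (Fin b) (Fin b) F) (Ξ : Matrix (Fin b) (Fin b) F),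
        Mid o o' θ ∧ Mid o o' ρ ∧ X = uMat o o' θ ρ Ξ)
    (hUA : ∀ (g : GL (Idx a b) F) (c : F), c ≠ 0 →
      (g : Matrix (Idx a b) (Idx a b) F) * EN o o' * ((g⁻¹ : GL (Idx a b) F) :
        Matrix (Idx a b) (Idx a b) F) = c • EN o o' →
      ∀ X : Matrix (Idx a b) (Idx a b) F, UA o o' X →
        UA o o' ((g : Matrix (Idx a b) (Idx a b) F) * X * ((g⁻¹ : GL (Idx a b) F) :
          Matrix (Idx a b) (Idx a b) F)))
    {g : GL (Idx a b) F} (hgM : g ∈ M)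
    (hg : ∀ y : Fin b → F, ∃ y' : Fin b → F, mv g (pt (Pi.single o 1) y) = pt (Pi.single o 1) y') :
    ∀ i j : Fin a, i ≠ o → i ≠ o' → j ≠ o → j ≠ o' →
      ∃ c : F, ablk (g : Matrix (Idx a b) (Idx a b) F) i j =
        c • ablk (g : Matrix (Idx a b) (Idx a b) F) o' o' := by
  intro i j hi hi' hj hj'
  have hoo' := ne_of_vals ho ho'
  have ea := h.ea
  obtain ⟨hcol, hcol', hrow, hrow', hγ, hγs, hginv⟩ :=
    stab_data h.ea h.symm h.nd ho ho' g (h.le_sp hgM) hg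
  obtain ⟨c, hc0, hN, -⟩ := conj_N_core h ho ho' hR1 hgM hg
  -- the element `uAel o e_j`
  have hwo : (Pi.single j (1 : F) : Fin a → F) o = 0 := Pi.single_eq_of_ne (Ne.symm hj) _
  have hwo' : (Pi.single j (1 : F) : Fin a → F) o' = 0 := Pi.single_eq_of_ne (Ne.symm hj') _
  have hUeq := Cfsg.Agent.Lib.Helper18.T23.H27.SOTLALeaf.uAel_eq (b := b) ea ho ho' (Pi.single j (1 : F)) hwo hwo'
  have hθ0 : Mid o o' (fun i => -((Pi.single j (1 : F) : Fin a → F) i) •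
      (1 : Matrix (Fin b) (Fin b) F)) := by
    refine ⟨?_, ?_⟩
    · change -((Pi.single j (1 : F) : Fin a → F) o) • (1 : Matrix (Fin b) (Fin b) F) = 0
      rw [hwo, neg_zero, zero_smul]
    · change -((Pi.single j (1 : F) : Fin a → F) o') • (1 : Matrix (Fin b) (Fin b) F) = 0
      rw [hwo', neg_zero, zero_smul]
  have hρ0 : Mid o o' (fun l => ((Jm a l (pr ea l) : F) * (Pi.single j (1 : F) : Fin a → F) (pr ea l)) •
      (1 : Matrix (Fin b) (Fin b) F)) := by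
    refine ⟨?_, ?_⟩
    · change ((Jm a o (pr ea o) : F) * (Pi.single j (1 : F) : Fin a → F) (pr ea o)) •
        (1 : Matrix (Fin b) (Fin b) F) = 0
      rw [Cfsg.Agent.Lib.Helper18.T23.H27.SOTLALeaf.pr_o ea ho ho', hwo', mul_zero, zero_smul]
    · change ((Jm a o' (pr ea o') : F) * (Pi.single j (1 : F) : Fin a → F) (pr ea o')) •
        (1 : Matrix (Fin b) (Fin b) F) = 0
      rw [Cfsg.Agent.Lib.Helper18.T23.H27.SOTLALeaf.pr_o' ea ho ho', hwo, mul_zero, zero_smul]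
  have hUM : (uAel o (Pi.single j (1 : F)) : GL (Idx a b) F) ∈ M :=
    Cfsg.Agent.Lib.Helper18.T23.H27.SOTLALeaf.uAel_mem_M h o _
  have hXM : g * uAel o (Pi.single j (1 : F)) * g⁻¹ ∈ M :=
    M.mul_mem (M.mul_mem hgM hUM) (M.inv_mem hgM)
  have hXU : UA o o' (g.1 * (uAel o (Pi.single j (1 : F)) : GL (Idx a b) F).1 * (g⁻¹).1) := by
    apply hUA g c hc0 hN
    rw [hUeq]
    exact UA_uMat hoo' hθ0 hρ0
  obtain ⟨θ, ρ, Ξ, hθ, hρ, hX⟩ := hEx _ hXU
  have hin : InM M (uMat o o' θ ρ Ξ) := by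
    refine ⟨_, hXM, ?_⟩
    rw [Units.val_mul, Units.val_mul, hX]
  obtain ⟨hsc, -, -⟩ := hR1p θ ρ Ξ hθ hρ hin
  obtain ⟨t, ht⟩ := hsc i
  -- the block `(i, o')` of `X`
  have hblk1 : ablk (g.1 * (uAel o (Pi.single j (1 : F)) : GL (Idx a b) F).1 * (g⁻¹).1) i o' = θ i := by
    have e : ¬ (i = o ∧ o' = o') := fun h' => hi h'.1
    rw [hX, Cfsg.Agent.Lib.Helper18.T23.H27.SOTLALeaf.ablk_uMat_gen, if_neg hi', if_pos rfl, if_neg hi,
      if_neg e, zero_add, add_zero, add_zero]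
  have hblk2 : ablk (g.1 * (uAel o (Pi.single j (1 : F)) : GL (Idx a b) F).1 * (g⁻¹).1) i o' =
      -(ablk g.1 i j * ablk (g⁻¹).1 o' o') := by
    rw [hUeq, ablk_mul_uMat_mul, ← Units.val_mul, mul_inv_cancel, Units.val_one, ablk_one, if_neg hi',
      hcol i hi, zero_add]
    have e1 : ∑ l, (0 : Matrix (Fin b) (Fin b) F) *
        (((Jm a l (pr ea l) : F) * (Pi.single j (1 : F) : Fin a → F) (pr ea l)) •
          (1 : Matrix (Fin b) (Fin b) F)) * ablk (g⁻¹).1 l o' = 0 := by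
      apply Finset.sum_eq_zero
      intro l _
      rw [zero_mul, zero_mul]
    rw [e1, zero_mul, zero_mul, add_zero, add_zero, Finset.sum_eq_single j]
    · rw [Pi.single_eq_same, Matrix.mul_smul, mul_one, Matrix.smul_mul, neg_smul, one_smul]
    · intro m _ hm
      rw [Pi.single_eq_of_ne hm, neg_zero, zero_smul, mul_zero, zero_mul]
    · intro h'
      exact absurd (Finset.mem_univ _) h'
  have hγs' : ablk (g⁻¹).1 o' o' * ablk g.1 o' o' = 1 := mul_eq_one_comm.1 hγs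
  refine ⟨-t, ?_⟩
  have e2 : ablk g.1 i j * ablk (g⁻¹).1 o' o' = (-t) • (1 : Matrix (Fin b) (Fin b) F) := by
    rw [neg_smul, ← ht, ← hblk1, hblk2, neg_neg]
  calc ablk g.1 i j = ablk g.1 i j * (ablk (g⁻¹).1 o' o' * ablk g.1 o' o') := by rw [hγs', mul_one]
    _ = (ablk g.1 i j * ablk (g⁻¹).1 o' o') * ablk g.1 o' o' := by rw [mul_assoc]
    _ = (-t) • ablk g.1 o' o' := by rw [e2, Matrix.smul_mul, one_mul]

/-- (R2d) with helper6's (U2b), (U2d) plugged in: only the statements of (R1), (R1+) remain as hypotheses -/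
theorem mid_blocks_of (h : MCtx a b G M) {o o' : Fin a} (ho : o.val = 0) (ho' : o'.val = 1)
    (hR1 : ∀ σ : Matrix (Fin b) (Fin b) F, InM M (uMat o o' 0 0 σ) → IsScal σ)
    (hR1p : ∀ (θ ρ : Fin a → Matrix (Fin b) (Fin b) F) (Ξ : Matrix (Fin b) (Fin b) F),
      Mid o o' θ → Mid o o' ρ → InM M (uMat o o' θ ρ Ξ) →
        (∀ i, IsScal (θ i)) ∧ (∀ j, IsScal (ρ j)) ∧ IsScal Ξ)
    {g : GL (Idx a b) F} (hgM : g ∈ M)
    (hg : ∀ y : Fin b → F, ∃ y' : Fin b → F, mv g (pt (Pi.single o 1) y) = pt (Pi.single o 1) y') :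
    ∀ i j : Fin a, i ≠ o → i ≠ o' → j ≠ o → j ≠ o' →
      ∃ c : F, ablk (g : Matrix (Idx a b) (Idx a b) F) i j =
        c • ablk (g : Matrix (Idx a b) (Idx a b) F) o' o' :=
  mid_blocks_core h ho ho' hR1 hR1p
    (fun X hX => Cfsg.Agent.Lib.Helper18.T23.H6.SOTLALeaf.exists_uMat_of_UA (ne_of_vals ho ho') hX)
    (fun g c hc hN X hX => Cfsg.Agent.Lib.Helper18.T23.H6.SOTLALeaf.UA_conj (ne_of_vals ho ho') g hc hN hX)
    hgM hg

end Cfsg.Agent.Lib.Helper18.T23.H13.SOTLALeaf
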